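import Groth.Prelude.Def_Formal2
import Groth.Agent.H78.Formal.Sys
import Groth.Agent.H78.Formal.PullSys

/-!
# Coherent formal modules only depend on the closed subset
-/

set_option linter.style.haveILetI false

universe u

open CategoryTheory Limits AlgebraicGeometry Opposite TopologicalSpace

namespace Groth.Agent.Lib.FormalZero.Equiv

open Groth.Agent.Lib Groth.Agent.H78.Formal Groth.Agent.H78.Formal.Sections

variable {A : Type u} [CommRing A] {X : Scheme.{u}} [X.Over (Spec (CommRingCat.of A))]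
variable {I J : Ideal A} {M N Q : X.Modules}

lemma killedBy_mono {I' : Ideal A} (h : I' ≤ I) (hM : _root_.Formal.KilledBy I M) :
    _root_.Formal.KilledBy I' M := fun a ha => hM a (h ha)

lemma killedBy_modPow (J : Ideal A) (p : ℕ) (M : X.Modules) :
    _root_.Formal.KilledBy (J ^ p) (_root_.Formal.modPow J p M) := fun a ha => by
  haveI : Epi (_root_.Formal.modPowπ J p M) := inferInstanceAs (Epi (cokernel.π _))
  rw [← cancel_epi (_root_.Formal.modPowπ J p M), ← smulMod_comp, comp_zero]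
  exact smulMod_π _ M ha

/-- Descend a map to `M / J^p M`. -/
noncomputable def qd {p : ℕ} (φ : M ⟶ Q) (hQ : _root_.Formal.KilledBy (J ^ p) Q) :
    _root_.Formal.modPow J p M ⟶ Q :=
  cokernel.desc _ φ ((PullSys.family_comp_iff φ).mpr fun a ha => by
    rw [smulMod_comp, hQ a ha, comp_zero])

@[reassoc (attr := simp)]
lemma π_qd {p : ℕ} (φ : M ⟶ Q) (hQ : _root_.Formal.KilledBy (J ^ p) Q) :
    _root_.Formal.modPowπ J p M ≫ qd φ hQ = φ :=
  cokernel.π_desc _ _ _

lemma modPow_hom_ext {p : ℕ} {φ ψ : _root_.Formal.modPow J p M ⟶ Q}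
    (h : _root_.Formal.modPowπ J p M ≫ φ = _root_.Formal.modPowπ J p M ≫ ψ) : φ = ψ :=
  coequalizer.hom_ext h

/-- `Dom X I J a`: what `J^p` kills, `I^(a p)` kills. -/
def Dom (X : Scheme.{u}) [X.Over (Spec (CommRingCat.of A))] (I J : Ideal A) (a : ℕ) : Prop :=
  ∀ (p : ℕ) (Q : X.Modules), Q.IsQuasicoherent →
    _root_.Formal.KilledBy (J ^ p) Q → _root_.Formal.KilledBy (I ^ (a * p)) Q

lemma sIdeal_le_radical
    (hV : (fun x : X => (X ↘ Spec (CommRingCat.of A)) x) ⁻¹' PrimeSpectrum.zeroLocus (J : Set A) ⊆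
      (fun x : X => (X ↘ Spec (CommRingCat.of A)) x) ⁻¹' PrimeSpectrum.zeroLocus (I : Set A))
    {U : X.Opens} (hU : IsAffineOpen U) : sIdeal I U ≤ (sIdeal J U).radical := by
  rw [Ideal.radical_eq_sInf]
  refine le_sInf fun P hP => ?_
  obtain ⟨hJP, hPp⟩ := hP
  refine Ideal.map_le_iff_le_comap.mpr fun a ha => ?_
  set q : Spec Γ(X, U) := ⟨P, hPp⟩
  have key : ∀ b : A, sMap A U b ∈ P ↔
      b ∈ ((X ↘ Spec (CommRingCat.of A)) (hU.fromSpec q)).asIdeal := fun b => by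
    let g := (Scheme.ΓSpecIso (CommRingCat.of A)).inv b
    have hb : X.basicOpen (sMap A U b) =
        U ⊓ (X ↘ Spec (CommRingCat.of A)) ⁻¹ᵁ (Spec (CommRingCat.of A)).basicOpen g := by
      rw [Scheme.preimage_basicOpen]
      exact Scheme.basicOpen_res _ _ _
    have h1 : hU.fromSpec q ∈ X.basicOpen (sMap A U b) ↔ sMap A U b ∉ P := by
      change q ∈ hU.fromSpec ⁻¹ᵁ X.basicOpen (sMap A U b) ↔ _
      rw [hU.fromSpec_preimage_basicOpen]
      rfl
    have hq : hU.fromSpec q ∈ U := by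
      rw [← SetLike.mem_coe, ← hU.range_fromSpec]
      exact ⟨q, rfl⟩
    have h2 : hU.fromSpec q ∈ X.basicOpen (sMap A U b) ↔
        b ∉ ((X ↘ Spec (CommRingCat.of A)) (hU.fromSpec q)).asIdeal := by
      rw [hb, AlgebraicGeometry.basicOpen_eq_of_affine]
      exact ⟨fun h => h.2, fun h => ⟨hq, h⟩⟩
    exact not_iff_not.mp (h1.symm.trans h2)
  have hJ : hU.fromSpec q ∈ (fun x : X => (X ↘ Spec (CommRingCat.of A)) x) ⁻¹'
      PrimeSpectrum.zeroLocus (J : Set A) :=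
    fun b hb => (key b).mp (hJP (mem_sIdeal hb))
  exact (key a).mpr (hV hJ ha)

lemma exists_dom [IsNoetherian X]
    (hV : (fun x : X => (X ↘ Spec (CommRingCat.of A)) x) ⁻¹' PrimeSpectrum.zeroLocus (J : Set A) ⊆
      (fun x : X => (X ↘ Spec (CommRingCat.of A)) x) ⁻¹' PrimeSpectrum.zeroLocus (I : Set A)) :
    ∃ a, 1 ≤ a ∧ Dom X I J a := by
  obtain ⟨n, hn⟩ := exists_uniform (X := X) (fun U n => sIdeal I U ^ n ≤ sIdeal J U)
    (fun U m n hmn h => (Ideal.pow_le_pow_right hmn).trans h) fun U hU => by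
      haveI : IsNoetherianRing Γ(X, U) := IsLocallyNoetherian.component_noetherian ⟨U, hU⟩
      exact Ideal.exists_pow_le_of_le_radical_of_fg (sIdeal_le_radical hV hU)
        (IsNoetherian.noetherian _)
  refine ⟨n + 1, Nat.le_add_left 1 n, fun p Q hQ hk c hc => ?_⟩
  refine eq_zero_of_cover _ fun x => ?_
  obtain ⟨U, hU, hx, hle⟩ := hn x
  refine ⟨U, hU, hx, fun s => ?_⟩
  have h0 := (killedBy_iff _).mp hk U hU
  rw [smulMod_app, ← Submodule.mem_bot Γ(X, U), ← h0]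
  refine Submodule.smul_mem_smul ?_ trivial
  rw [sIdeal_pow]
  refine (?_ : sIdeal I U ^ ((n + 1) * p) ≤ sIdeal J U ^ p) ?_
  · rw [pow_mul]
    exact Ideal.pow_right_mono ((Ideal.pow_le_pow_right (Nat.le_succ n)).trans hle) p
  · rw [← sIdeal_pow]
    exact mem_sIdeal hc

section

variable (J) (a : ℕ)

/-- The transition maps of the re-indexed system. -/
noncomputable def tmap (G : ℕᵒᵖ ⥤ X.Modules) {m n : ℕ} (h : m ≤ n) :
    _root_.Formal.modPow J (n + 1) (G.obj (op (a * (n + 1)))) ⟶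
      _root_.Formal.modPow J (m + 1) (G.obj (op (a * (m + 1)))) :=
  qd (G.map (homOfLE (Nat.mul_le_mul_left a (Nat.succ_le_succ h))).op ≫
      _root_.Formal.modPowπ J _ _)
    (killedBy_mono (Ideal.pow_le_pow_right (Nat.succ_le_succ h)) (killedBy_modPow J _ _))

@[reassoc]
lemma π_tmap (G : ℕᵒᵖ ⥤ X.Modules) {m n : ℕ} (h : m ≤ n) (h' : a * (m + 1) ≤ a * (n + 1)) :
    _root_.Formal.modPowπ J (n + 1) _ ≫ tmap J a G h =
      G.map (homOfLE h').op ≫ _root_.Formal.modPowπ J (m + 1) _ :=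
  π_qd _ _

/-- The re-indexed system `G_(a (n+1)) / J^(n+1)`. -/
noncomputable def transSys (G : ℕᵒᵖ ⥤ X.Modules) : ℕᵒᵖ ⥤ X.Modules where
  obj n := _root_.Formal.modPow J (n.unop + 1) (G.obj (op (a * (n.unop + 1))))
  map {n m} f := tmap J a G (leOfHom f.unop)
  map_id n := modPow_hom_ext (by
    rw [π_tmap J a G _ le_rfl, Category.comp_id]
    exact (congrArg (· ≫ _) (G.map_id _)).trans (Category.id_comp _))
  map_comp {n m k} f g := modPow_hom_ext (by
    have h1 := Nat.mul_le_mul_left a (Nat.succ_le_succ (leOfHom f.unop))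
    have h2 := Nat.mul_le_mul_left a (Nat.succ_le_succ (leOfHom g.unop))
    rw [π_tmap J a G _ (h2.trans h1), π_tmap_assoc J a G _ h1, π_tmap J a G _ h2,
      ← Category.assoc, ← G.map_comp]
    rfl)

lemma isCohFormal_transSys {a : ℕ} (ha : Dom X I J a) {G : ℕᵒᵖ ⥤ X.Modules}
    (hG : _root_.Formal.IsCohFormal I G) : _root_.Formal.IsCohFormal J (transSys J a G) := by
  refine ⟨fun n => isCoh_modPow J _ (hG.1 _), fun n => killedBy_modPow J _ _, fun n => ?_⟩
  have hle : a * (n + 1) ≤ a * (n + 1 + 1) := Nat.mul_le_mul_left a (Nat.le_succ _)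
  let H₀ := _root_.Formal.modPow J (n + 1) (G.obj (op (a * (n + 1))))
  let H₁ := _root_.Formal.modPow J (n + 1 + 1) (G.obj (op (a * (n + 1 + 1))))
  let π₀ : G.obj (op (a * (n + 1))) ⟶ H₀ := _root_.Formal.modPowπ J (n + 1) _
  let π₁ : G.obj (op (a * (n + 1 + 1))) ⟶ H₁ := _root_.Formal.modPowπ J (n + 1 + 1) _
  let t : H₁ ⟶ H₀ := tmap J a G (Nat.le_succ n)
  have ht : π₁ ≫ t = G.map (homOfLE hle).op ≫ π₀ := π_tmap J a G _ hle
  haveI := Sys.qcoh hG (a * (n + 1 + 1))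
  haveI hG' := Sys.epi_map hG hle
  haveI hπ₀ : Epi π₀ := inferInstanceAs (Epi (cokernel.π _))
  haveI hπ₁ : Epi π₁ := inferInstanceAs (Epi (cokernel.π _))
  haveI : Epi (π₁ ≫ t) := by rw [ht]; exact epi_comp' hG' hπ₀
  haveI hte : Epi t := epi_of_epi π₁ t
  have hk₀ : _root_.Formal.KilledBy (J ^ (n + 1)) H₀ := killedBy_modPow J _ _
  refine PullSys.exists_isIso_desc_of_factor (J := J ^ (n + 1)) t ?_ fun Q φ hφ => ?_
  · intro c hc
    rw [smulMod_comp t c, hk₀ c hc, comp_zero]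
  · let Q' := _root_.Formal.modPow J (n + 1) (G.obj (op (a * (n + 1 + 1))))
    haveI : Q'.IsQuasicoherent := isQCoh_modPow J (n + 1)
    have hQ' : _root_.Formal.KilledBy (I ^ (a * (n + 1) + 1)) Q' :=
      killedBy_mono (Ideal.pow_le_pow_right (Nat.le_succ _))
        (ha (n + 1) Q' inferInstance (killedBy_modPow J _ _))
    let π' : G.obj (op (a * (n + 1 + 1))) ⟶ Q' := _root_.Formal.modPowπ J (n + 1) _
    have hk' : _root_.Formal.KilledBy (J ^ (n + 1)) Q' := killedBy_modPow J _ _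
    obtain ⟨g, hg⟩ := Sys.exists_desc_map hG hle π' hQ'
    let φ₁ : H₁ ⟶ Q := φ
    have hφ₁ : ∀ c ∈ J ^ (n + 1), _root_.Formal.smulMod A H₁ c ≫ φ₁ = 0 := hφ
    have h0 : ∀ c ∈ J ^ (n + 1), _root_.Formal.smulMod A _ c ≫ π₁ ≫ φ₁ = 0 := fun c hc => by
      rw [← Category.assoc, smulMod_comp π₁ c, Category.assoc, hφ₁ c hc, comp_zero]
    let φ' : Q' ⟶ Q := cokernel.desc _ (π₁ ≫ φ₁) ((PullSys.family_comp_iff _).mpr h0)
    have hπφ : π' ≫ φ' = π₁ ≫ φ₁ := cokernel.π_desc _ _ _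
    have hgφ : ∀ c ∈ J ^ (n + 1), _root_.Formal.smulMod A _ c ≫ g ≫ φ' = 0 := fun c hc => by
      rw [← Category.assoc, smulMod_comp g c, hk' c hc, comp_zero, zero_comp]
    let ψ : H₀ ⟶ Q := cokernel.desc _ (g ≫ φ') ((PullSys.family_comp_iff _).mpr hgφ)
    have hψ : π₀ ≫ ψ = g ≫ φ' := cokernel.π_desc _ _ _
    refine ⟨ψ, ?_⟩
    change t ≫ ψ = φ₁
    rw [← cancel_epi π₁, reassoc_of% ht, hψ, reassoc_of% hg, hπφ]

/-- The projection to the re-indexed system. -/
noncomputable def σπ (G : ℕᵒᵖ ⥤ X.Modules) (n : ℕᵒᵖ) :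
    G.obj (op (a * (n.unop + 1))) ⟶ (transSys J a G).obj n :=
  _root_.Formal.modPowπ J (n.unop + 1) _

instance epi_σπ (G : ℕᵒᵖ ⥤ X.Modules) (n : ℕᵒᵖ) : Epi (σπ J a G n) :=
  inferInstanceAs (Epi (cokernel.π _))

/-- Maps out of the re-indexed system. -/
noncomputable def σd {G : ℕᵒᵖ ⥤ X.Modules} {n : ℕᵒᵖ} (φ : G.obj (op (a * (n.unop + 1))) ⟶ Q)
    (hQ : _root_.Formal.KilledBy (J ^ (n.unop + 1)) Q) : (transSys J a G).obj n ⟶ Q :=
  qd φ hQ

@[reassoc (attr := simp)]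
lemma σπ_σd {G : ℕᵒᵖ ⥤ X.Modules} {n : ℕᵒᵖ} (φ : G.obj (op (a * (n.unop + 1))) ⟶ Q)
    (hQ : _root_.Formal.KilledBy (J ^ (n.unop + 1)) Q) : σπ J a G n ≫ σd J a φ hQ = φ :=
  π_qd _ _

lemma killedBy_obj (G : ℕᵒᵖ ⥤ X.Modules) (n : ℕᵒᵖ) :
    _root_.Formal.KilledBy (J ^ (n.unop + 1)) ((transSys J a G).obj n) :=
  killedBy_modPow J _ _

@[reassoc]
lemma σπ_map (G : ℕᵒᵖ ⥤ X.Modules) {n m : ℕᵒᵖ} (f : n ⟶ m)
    (h : a * (m.unop + 1) ≤ a * (n.unop + 1)) :
    σπ J a G n ≫ (transSys J a G).map f = G.map (homOfLE h).op ≫ σπ J a G m :=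
  π_tmap J a G (leOfHom f.unop) h

/-- Functoriality of `transSys`. -/
noncomputable def transMap {F G : ℕᵒᵖ ⥤ X.Modules} (α : F ⟶ G) :
    transSys J a F ⟶ transSys J a G where
  app n := σd J a (α.app _ ≫ σπ J a G n) (killedBy_obj J a G n)
  naturality {n m} f := by
    have h := Nat.mul_le_mul_left a (Nat.succ_le_succ (leOfHom f.unop))
    rw [← cancel_epi (σπ J a F n), σπ_map_assoc J a F f h, σπ_σd, σπ_σd_assoc, Category.assoc,
      σπ_map J a G f h, NatTrans.naturality_assoc]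

@[reassoc (attr := simp)]
lemma σπ_transMap {F G : ℕᵒᵖ ⥤ X.Modules} (α : F ⟶ G) (n : ℕᵒᵖ) :
    σπ J a F n ≫ (transMap J a α).app n = α.app _ ≫ σπ J a G n :=
  σπ_σd J a _ (killedBy_obj J a G n)

/-- The comparison functor between the categories of coherent formal modules. -/
noncomputable def trans {a : ℕ} (ha : Dom X I J a) :
    _root_.Formal2.CohFormalCat I X ⥤ _root_.Formal2.CohFormalCat J X where
  obj G := ⟨transSys J a G.obj, isCohFormal_transSys J ha G.property⟩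
  map f := ObjectProperty.homMk (transMap J a f.hom)
  map_id G := by
    apply ObjectProperty.hom_ext
    ext n : 2
    change (transMap J a (𝟙 G.obj)).app n = 𝟙 ((transSys J a G.obj).obj n)
    rw [← cancel_epi (σπ J a G.obj n), σπ_transMap, NatTrans.id_app, Category.id_comp,
      Category.comp_id]
  map_comp {F G H} f g := by
    apply ObjectProperty.hom_ext
    ext n : 2
    change (transMap J a (f.hom ≫ g.hom)).app n =
      (transMap J a f.hom).app n ≫ (transMap J a g.hom).app n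
    rw [← cancel_epi (σπ J a F.obj n), σπ_transMap, σπ_transMap_assoc, σπ_transMap,
      NatTrans.comp_app, Category.assoc]

end

section Counit

variable {a b : ℕ}

lemma le_idx (ha : 1 ≤ a) (hb : 1 ≤ b) (n : ℕ) : n ≤ a * (b * (n + 1) + 1) :=
  (Nat.le_succ n).trans (((Nat.le_mul_of_pos_left _ hb).trans (Nat.le_succ _)).trans
    (Nat.le_mul_of_pos_left _ ha))

/-- The middle step of the comparison. -/
noncomputable def mid (ha : 1 ≤ a) (hb : 1 ≤ b) (hbd : Dom X J I b) {G : ℕᵒᵖ ⥤ X.Modules}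
    (hG : _root_.Formal.IsCohFormal I G) (n : ℕᵒᵖ) :
    (transSys J a G).obj (op (b * (n.unop + 1))) ⟶ G.obj n :=
  σd J a (G.map (homOfLE (le_idx ha hb n.unop)).op)
    (killedBy_mono (Ideal.pow_le_pow_right (Nat.le_succ _))
      (hbd (n.unop + 1) _ (Sys.qcoh hG n.unop) (hG.2.1 n.unop)))

/-- `(G_N / J^p) / I^(n+1) ⟶ G_n`. -/
noncomputable def back (ha : 1 ≤ a) (hb : 1 ≤ b) (hbd : Dom X J I b) {G : ℕᵒᵖ ⥤ X.Modules}
    (hG : _root_.Formal.IsCohFormal I G) : transSys I b (transSys J a G) ⟶ G where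
  app n := σd I b (mid ha hb hbd hG n) (hG.2.1 n.unop)
  naturality {n m} f := by
    have h1 : b * (m.unop + 1) ≤ b * (n.unop + 1) :=
      Nat.mul_le_mul_left b (Nat.succ_le_succ (leOfHom f.unop))
    have h2 : a * (b * (m.unop + 1) + 1) ≤ a * (b * (n.unop + 1) + 1) :=
      Nat.mul_le_mul_left a (Nat.succ_le_succ h1)
    rw [← cancel_epi (σπ I b (transSys J a G) n), σπ_map_assoc I b _ f h1, σπ_σd, σπ_σd_assoc,
      ← cancel_epi (σπ J a G (op (b * (n.unop + 1)))), σπ_map_assoc J a G _ h2, mid, mid,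
      σπ_σd, σπ_σd_assoc, ← G.map_comp, ← G.map_comp]
    rfl

@[reassoc]
lemma σπ_back (ha : 1 ≤ a) (hb : 1 ≤ b) (hbd : Dom X J I b) {G : ℕᵒᵖ ⥤ X.Modules}
    (hG : _root_.Formal.IsCohFormal I G) (n : ℕᵒᵖ) :
    σπ I b (transSys J a G) n ≫ (back ha hb hbd hG).app n = mid ha hb hbd hG n :=
  σπ_σd I b _ (hG.2.1 n.unop)

lemma π_π_back (ha : 1 ≤ a) (hb : 1 ≤ b) (hbd : Dom X J I b) {G : ℕᵒᵖ ⥤ X.Modules}
    (hG : _root_.Formal.IsCohFormal I G) (n : ℕ) :
    (σπ J a G (op (b * (n + 1))) ≫ σπ I b (transSys J a G) (op n)) ≫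
      (back ha hb hbd hG).app (op n) = G.map (homOfLE (le_idx ha hb n)).op := by
  rw [Category.assoc]
  rw [σπ_back, mid, σπ_σd]

lemma isIso_back_app (ha : 1 ≤ a) (hb : 1 ≤ b) (had : Dom X I J a) (hbd : Dom X J I b)
    {G : ℕᵒᵖ ⥤ X.Modules} (hG : _root_.Formal.IsCohFormal I G) (n : ℕ) :
    IsIso ((back ha hb hbd hG).app (op n)) := by
  have hS := isCohFormal_transSys I hbd (isCohFormal_transSys J had hG)
  haveI := Sys.qcoh hS n
  let t : G.obj (op (a * (b * (n + 1) + 1))) ⟶ (transSys I b (transSys J a G)).obj (op n) :=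
    σπ J a G (op (b * (n + 1))) ≫ σπ I b (transSys J a G) (op n)
  have ht : t ≫ (back ha hb hbd hG).app (op n) = G.map (homOfLE (le_idx ha hb n)).op :=
    π_π_back ha hb hbd hG n
  obtain ⟨g, hg⟩ := Sys.exists_desc_map hG (le_idx ha hb n) t (hS.2.1 n)
  haveI := Sys.epi_map hG (le_idx ha hb n)
  haveI : Epi t := epi_comp' (epi_σπ J a G (op (b * (n + 1))))
    (epi_σπ I b (transSys J a G) (op n))
  refine ⟨g, ?_, ?_⟩
  · rw [← cancel_epi t, reassoc_of% ht]
    exact hg.trans (Category.comp_id _).symm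
  · rw [← cancel_epi (G.map (homOfLE (le_idx ha hb n)).op), reassoc_of% hg]
    exact ht.trans (Category.comp_id _).symm

lemma back_natural (ha : 1 ≤ a) (hb : 1 ≤ b) (hbd : Dom X J I b) {F G : ℕᵒᵖ ⥤ X.Modules}
    (hF : _root_.Formal.IsCohFormal I F) (hG : _root_.Formal.IsCohFormal I G) (φ : F ⟶ G) :
    transMap I b (transMap J a φ) ≫ back ha hb hbd hG = back ha hb hbd hF ≫ φ := by
  ext n : 2
  rw [NatTrans.comp_app, NatTrans.comp_app, ← cancel_epi (σπ I b (transSys J a F) n),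
    σπ_transMap_assoc]
  rw [σπ_back, σπ_back_assoc, ← cancel_epi (σπ J a F (op (b * (n.unop + 1)))), σπ_transMap_assoc,
    mid, mid, σπ_σd, σπ_σd_assoc]
  exact (φ.naturality _).symm

/-- The composite of the two comparisons is the identity. -/
noncomputable def counitIso (ha : 1 ≤ a) (hb : 1 ≤ b) (had : Dom X I J a) (hbd : Dom X J I b) :
    trans J had ⋙ trans I hbd ≅ 𝟭 (_root_.Formal2.CohFormalCat I X) :=
  NatIso.ofComponents
    (fun G =>
      haveI : ∀ n, IsIso ((back ha hb hbd G.property).app n) := fun n =>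
        isIso_back_app ha hb had hbd G.property n.unop
      haveI : IsIso (back ha hb hbd G.property) := NatIso.isIso_of_isIso_app _
      ObjectProperty.isoMk _ (@asIso _ _ _ _ (back ha hb hbd G.property) this))
    fun {F G} φ => ObjectProperty.hom_ext _ (back_natural ha hb hbd F.property G.property φ.hom)

end Counit

theorem nonempty_equivalence [IsNoetherian X]
    (hV : (fun x : X => (X ↘ Spec (CommRingCat.of A)) x) ⁻¹' PrimeSpectrum.zeroLocus (I : Set A) =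
      (fun x : X => (X ↘ Spec (CommRingCat.of A)) x) ⁻¹' PrimeSpectrum.zeroLocus (J : Set A)) :
    Nonempty (_root_.Formal2.CohFormalCat I X ≌ _root_.Formal2.CohFormalCat J X) := by
  obtain ⟨a, ha, had⟩ := exists_dom (I := I) (J := J) hV.ge
  obtain ⟨b, hb, hbd⟩ := exists_dom (I := J) (J := I) hV.le
  exact ⟨CategoryTheory.Equivalence.mk (trans J had) (trans I hbd)
    (counitIso ha hb had hbd).symm (counitIso hb ha hbd had)⟩

end Groth.Agent.Lib.FormalZero.Equiv
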